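import Groth.Agent.CAlgOdd.FlatDescFinite
import Groth.Agent.FlatModel.Local
import Mathlib.RingTheory.IsTensorProduct
import Mathlib.RingTheory.Localization.BaseChange
import Mathlib.RingTheory.Ideal.GoingUp

/-!
Flatness at a prime descends along a finite injective extension of the local ring of the base.
-/

set_option autoImplicit false
set_option linter.style.haveILetI false
universe u

open TensorProduct

namespace Groth.Agent.H1FlatDescFin

section localized

variable {B C M MP : Type u} [CommRing B] [CommRing C] [Algebra B C] [AddCommGroup M] [Module B M]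
  [AddCommGroup MP] [Module B MP] (W : Submonoid B) (ℓ : M →ₗ[B] MP) [IsLocalizedModule W ℓ]

theorem lTensor_smul' (c : C) (y : C ⊗[B] M) :
    ℓ.lTensor C (c • y) = c • ℓ.lTensor C y := by
  induction y using TensorProduct.induction_on with
  | zero => simp
  | tmul a m => simp [smul_tmul']
  | add a b ha hb => simp only [smul_add, map_add, ha, hb]

theorem isLocalizedModule_baseChange :
    IsLocalizedModule (W.map (algebraMap B C)) (ℓ.baseChange C) := by
  haveI h : IsLocalizedModule W (ℓ.lTensor C) := by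
    have h1 : IsLocalizedModule W (AlgebraTensorModule.rTensor B C ℓ) := inferInstance
    haveI := IsLocalizedModule.of_linearEquiv W (AlgebraTensorModule.rTensor B C ℓ) (TensorProduct.comm B MP C)
    have := IsLocalizedModule.of_linearEquiv_right W
      ((TensorProduct.comm B MP C).toLinearMap ∘ₗ AlgebraTensorModule.rTensor B C ℓ) (TensorProduct.comm B C M)
    convert this using 1
    exact TensorProduct.ext' fun c m => rfl
  refine ⟨?_, fun y => ?_, fun {x y} hxy => ?_⟩
  · rintro ⟨_, w, hw, rfl⟩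
    have hu := (Module.End.isUnit_iff _).1 (IsLocalizedModule.map_units (ℓ.lTensor C) ⟨w, hw⟩)
    rw [Module.End.isUnit_iff]
    refine (Function.Bijective.of_comp_iff' Function.bijective_id _).1 ?_
    convert hu using 1
    funext z
    exact algebraMap_smul C w z
  · obtain ⟨⟨x, s⟩, hs⟩ := IsLocalizedModule.surj W (ℓ.lTensor C) y
    exact ⟨⟨x, ⟨algebraMap B C s, Submonoid.mem_map_of_mem _ s.2⟩⟩, (algebraMap_smul C (s : B) y).trans hs⟩
  · obtain ⟨s, hs⟩ := IsLocalizedModule.exists_of_eq (S := W) (f := ℓ.lTensor C) hxy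
    exact ⟨⟨algebraMap B C s, Submonoid.mem_map_of_mem _ s.2⟩,
      (algebraMap_smul C (s : B) x).trans (hs.trans (algebraMap_smul C (s : B) y).symm)⟩

end localized

/-- A polynomial relation `c` over `B` gives primes of `C` maximal away from `P` lying over `P`. -/
theorem comap_eq_of_maximal {B C : Type u} [CommRing B] [CommRing C] [Algebra B C] (P : Ideal B) [P.IsPrime]
    (hint : ∀ c : C, ∃ w : B, w ∉ P ∧ IsIntegral B (w • c))
    (Q : Ideal C) [Q.IsPrime] (hdis : ∀ w : B, w ∉ P → algebraMap B C w ∉ Q)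
    (hmax : ∀ J : Ideal C, Q < J → ∃ w : B, w ∉ P ∧ algebraMap B C w ∈ J) :
    Q.comap (algebraMap B C) = P := by
  refine le_antisymm (fun b hb => by_contra fun hbP => hdis b hbP hb) fun b hb => by_contra fun hbQ => ?_
  obtain ⟨w, hw, hwJ⟩ := hmax (Q ⊔ Ideal.span {algebraMap B C b}) (lt_of_le_of_ne le_sup_left fun h =>
    hbQ (show algebraMap B C b ∈ Q from h ▸ Ideal.mem_sup_right (Ideal.mem_span_singleton_self _)))
  obtain ⟨q, hq, z, hz, hqz⟩ := Submodule.mem_sup.1 hwJ
  obtain ⟨c, rfl⟩ := Ideal.mem_span_singleton'.1 hz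
  obtain ⟨w', hw', f, hf, hfe⟩ := hint c
  have key : Polynomial.eval₂ (algebraMap B C) (algebraMap B C (w' * w)) (f.scaleRoots b) ∈ Q := by
    have h1 : Polynomial.eval₂ (algebraMap B C) (algebraMap B C b * (w' • c)) (f.scaleRoots b) = 0 :=
      Polynomial.scaleRoots_eval₂_eq_zero _ hfe
    rw [← Ideal.Quotient.eq_zero_iff_mem, Polynomial.hom_eval₂]
    have h2 : Ideal.Quotient.mk Q (algebraMap B C b * (w' • c)) = Ideal.Quotient.mk Q (algebraMap B C (w' * w)) := by
      rw [map_mul (algebraMap B C), ← hqz, Algebra.smul_def, Ideal.Quotient.eq]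
      have : algebraMap B C b * (algebraMap B C w' * c) - algebraMap B C w' * (q + c * algebraMap B C b) =
          -(algebraMap B C w' * q) := by ring
      rw [this]
      exact Q.neg_mem (Q.mul_mem_left _ hq)
    rw [← h2, ← Polynomial.hom_eval₂, h1, map_zero]
  rw [show Polynomial.eval₂ (algebraMap B C) (algebraMap B C (w' * w)) (f.scaleRoots b) = algebraMap B C (Polynomial.eval₂ (RingHom.id B) (w' * w) (f.scaleRoots b)) by rw [Polynomial.hom_eval₂, RingHom.comp_id]] at key
  have h3 : Polynomial.eval₂ (RingHom.id B) (w' * w) (f.scaleRoots b) ∈ P :=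
    by_contra fun h => hdis _ h (by simpa using key)
  have h4 := (Ideal.Quotient.eq_zero_iff_mem (I := P)).2 h3
  rw [Polynomial.hom_eval₂, RingHom.comp_id, ← Polynomial.eval_map,
    Polynomial.map_scaleRoots _ _ _ (by rw [hf.leadingCoeff, map_one]; exact one_ne_zero),
    Ideal.Quotient.eq_zero_iff_mem.2 hb, Polynomial.scaleRoots_zero, hf.map _ |>.leadingCoeff, one_smul,
    Polynomial.eval_pow, Polynomial.eval_X, ← map_pow, Ideal.Quotient.eq_zero_iff_mem] at h4
  rcases (Ideal.IsPrime.mem_or_mem ‹_› (Ideal.IsPrime.mem_of_pow_mem ‹_› _ h4)) with h | h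
  · exact hw' h
  · exact hw h

theorem flat_localized {A R S B C : Type u} [CommRing A] [CommRing R] [CommRing S] [CommRing B] [CommRing C]
    [IsNoetherianRing R] [Algebra A R] [Algebra R S] [Algebra A S] [IsScalarTower A R S] [Algebra A B]
    (p : Ideal A) [p.IsPrime] [IsLocalization.AtPrime R p]
    [Algebra A C] [Algebra S C] [Algebra B C] [IsScalarTower A S C] [IsScalarTower A B C]
    [Algebra.IsPushout A S B C] [Module.Finite R S] (hinj : Function.Injective (algebraMap R S))
    (P : Ideal B) [P.IsPrime] (hP : P.comap (algebraMap A B) = p)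
    (M : Type u) [AddCommGroup M] [Module B M] [Module A M] [IsScalarTower A B M]
    (h : ∀ (Q : Ideal C) [Q.IsPrime], Q.comap (algebraMap B C) = P → (Q.comap (algebraMap S C)).IsMaximal →
      Module.Flat S (LocalizedModule Q.primeCompl (C ⊗[B] M))) :
    Module.Flat A (LocalizedModule P.primeCompl M) := by
  let MP := LocalizedModule P.primeCompl M
  let ℓ := LocalizedModule.mkLinearMap P.primeCompl M
  have hsmul : ∀ a : A, a ∉ p → algebraMap A B a ∉ P := fun a ha hm => ha (hP ▸ hm)
  have hu : ∀ a : p.primeCompl, IsUnit (algebraMap A (Module.End A MP) a) := fun a => by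
    have h1 := (Module.End.isUnit_iff _).1 (IsLocalizedModule.map_units ℓ
      (⟨algebraMap A B a, hsmul _ a.2⟩ : P.primeCompl))
    rw [Module.End.isUnit_iff]
    convert h1 using 1
    funext z
    exact (algebraMap_smul B (a : A) z).symm
  haveI : IsLocalizedModule p.primeCompl (LinearMap.id : MP →ₗ[A] MP) :=
    ⟨hu, fun y => ⟨⟨y, 1⟩, one_smul _ _⟩, fun e => ⟨1, by simpa using e⟩⟩
  letI : Module R MP := IsLocalizedModule.module (A := R) p.primeCompl (LinearMap.id : MP →ₗ[A] MP)
  haveI : IsScalarTower A R MP := IsLocalizedModule.isScalarTower_module _ _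
  rw [← Module.flat_iff_of_isLocalization R p.primeCompl]
  -- it suffices that `S ⊗ MP` is flat over `S`
  suffices hS : Module.Flat S (S ⊗[A] MP) by
    let e : S ⊗[R] MP ≃ₗ[S] S ⊗[A] MP :=
      (AlgebraTensorModule.congr (LinearEquiv.refl S S)
        ((IsLocalizedModule.isBaseChange p.primeCompl R (LinearMap.id : MP →ₗ[A] MP)).equiv).symm).trans
        (AlgebraTensorModule.cancelBaseChange A R S S MP)
    haveI : Module.Flat S (S ⊗[R] MP) := Module.Flat.of_linearEquiv e
    exact CAlgOdd.FlatDesc.flat_of_finite_injective MP S hinj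
  haveI := Algebra.IsPushout.symm (R := A) (S := S) (R' := B) (S' := C) inferInstance
  refine @Module.Flat.of_linearEquiv _ _ _ _ _ _ _ _ ?_ (Algebra.IsPushout.cancelBaseChange A S B C MP).symm
  haveI := isLocalizedModule_baseChange (C := C) P.primeCompl ℓ
  rw [FlatModel.flat_localized_iff (P.primeCompl.map (algebraMap B C)) (ℓ.baseChange C)]
  intro J y hy
  by_contra hcon
  push Not at hcon
  let I : Ideal C := LinearMap.ker (LinearMap.toSpanSingleton C ((C ⊗[B] M) ⊗[S] J) y)
  have hI : Disjoint (I : Set C) (P.primeCompl.map (algebraMap B C) : Set C) :=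
    Set.disjoint_left.2 fun s hs hsW => hcon s hsW hs
  obtain ⟨Q, hIQ, hQdis, hQmax⟩ : ∃ Q : Ideal C, I ≤ Q ∧
      Disjoint (Q : Set C) (P.primeCompl.map (algebraMap B C) : Set C) ∧
      ∀ J' : Ideal C, Q < J' → ¬ Disjoint (J' : Set C) (P.primeCompl.map (algebraMap B C) : Set C) := by
    obtain ⟨Q, hIQ, hQ⟩ := zorn_le_nonempty₀ {J' : Ideal C | Disjoint (J' : Set C) (P.primeCompl.map (algebraMap B C) : Set C)}
      (fun c hc hchain z hz => ⟨sSup c, Set.disjoint_left.2 fun s hs hsW => by
        obtain ⟨J', hJ', hsJ⟩ := (Submodule.mem_sSup_of_directed ⟨z, hz⟩ hchain.directedOn).1 hs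
        exact Set.disjoint_left.1 (hc hJ') hsJ hsW, fun _ => le_sSup⟩) I hI
    exact ⟨Q, hIQ, hQ.prop, fun J' hJ' hd => hJ'.not_ge (hQ.le_of_ge hd hJ'.le)⟩
  haveI : Q.IsPrime := by
    refine ⟨fun htop => Set.disjoint_left.1 hQdis (htop ▸ trivial : (1 : C) ∈ Q) (one_mem _), ?_⟩
    intro x z hxz
    by_contra hne
    push Not at hne
    obtain ⟨s, hs, hsW⟩ := Set.not_disjoint_iff.1 (hQmax (Q ⊔ Ideal.span {x})
      (lt_of_le_of_ne le_sup_left fun he => hne.1 (he ▸ Ideal.mem_sup_right (Ideal.mem_span_singleton_self x))))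
    obtain ⟨t, ht, htW⟩ := Set.not_disjoint_iff.1 (hQmax (Q ⊔ Ideal.span {z})
      (lt_of_le_of_ne le_sup_left fun he => hne.2 (he ▸ Ideal.mem_sup_right (Ideal.mem_span_singleton_self z))))
    refine Set.disjoint_left.1 hQdis ?_ (mul_mem hsW htW)
    have := Ideal.mul_mem_mul hs ht
    rw [Ideal.sup_mul, Ideal.mul_sup, Ideal.mul_sup, Ideal.span_singleton_mul_span_singleton] at this
    refine (?_ : _ ≤ Q) this
    repeat' first
      | apply sup_le
      | exact Ideal.mul_le_left
      | exact Ideal.mul_le_right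
      | exact (Ideal.span_singleton_le_iff_mem _).2 hxz
  have hintS : ∀ s : S, ∃ a : A, a ∉ p ∧ IsIntegral A (a • s) := fun s => by
    obtain ⟨⟨a, ha⟩, hm⟩ := IsIntegral.exists_multiple_integral_of_isLocalization p.primeCompl s
      (Algebra.IsIntegral.isIntegral (R := R) s)
    exact ⟨a, ha, hm⟩
  have hint : ∀ c : C, ∃ w : B, w ∉ P ∧ IsIntegral B (w • c) := by
    intro c
    induction c using (Algebra.IsPushout.out (R := A) (S := B) (R' := S) (S' := C)).inductionOn with
    | zero => exact ⟨1, fun h1 => Ideal.IsPrime.ne_top ‹_› ((Ideal.eq_top_iff_one P).2 h1), by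
        rw [smul_zero]; exact isIntegral_zero⟩
    | tmul s =>
      obtain ⟨a, ha, hs⟩ := hintS s
      refine ⟨algebraMap A B a, hsmul a ha, ?_⟩
      rw [algebraMap_smul]
      have := (hs.map (IsScalarTower.toAlgHom A S C)).tower_top (A := B)
      rwa [map_smul] at this
    | smul b c hc =>
      obtain ⟨w, hw, hc⟩ := hc
      exact ⟨w, hw, by rw [smul_comm]; exact hc.smul b⟩
    | add c c' hc hc' =>
      obtain ⟨w, hw, hc⟩ := hc
      obtain ⟨w', hw', hc'⟩ := hc'
      refine ⟨w * w', fun hm => (Ideal.IsPrime.mem_or_mem ‹_› hm).elim hw hw', ?_⟩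
      rw [smul_add, mul_smul, mul_smul, smul_comm w w' c]
      exact (hc.smul w').add (hc'.smul w)
  have hQP : Q.comap (algebraMap B C) = P := comap_eq_of_maximal P hint Q
    (fun w hw hwQ => Set.disjoint_left.1 hQdis hwQ ⟨w, hw, rfl⟩) fun J' hJ' => by
      obtain ⟨s, hs, w, hw, rfl⟩ := Set.not_disjoint_iff.1 (hQmax J' hJ')
      exact ⟨w, hw, hs⟩
  have hQA : (Q.comap (algebraMap S C)).comap (algebraMap A S) = p := by
    rw [Ideal.comap_comap, ← IsScalarTower.algebraMap_eq, IsScalarTower.algebraMap_eq A B C, ← Ideal.comap_comap,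
      hQP, hP]
  have hQm : (Q.comap (algebraMap S C)).IsMaximal := by
    haveI : IsLocalRing R := IsLocalization.AtPrime.isLocalRing R p
    refine Ideal.isMaximal_of_isIntegral_of_isMaximal_comap (R := R) _ ?_
    convert IsLocalRing.maximalIdeal.isMaximal R
    haveI : ((Q.comap (algebraMap S C)).comap (algebraMap R S)).IsPrime := inferInstance
    have h1 : ((Q.comap (algebraMap S C)).comap (algebraMap R S)).comap (algebraMap A R) = p := by
      rw [Ideal.comap_comap, ← IsScalarTower.algebraMap_eq]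
      exact hQA
    rw [← IsLocalization.map_under p.primeCompl R ((Q.comap (algebraMap S C)).comap (algebraMap R S)), Ideal.under, h1]
    exact IsLocalization.AtPrime.map_eq_maximalIdeal p R
  obtain ⟨s, hs, hsy⟩ := ((FlatModel.flat_localized_iff (N := LocalizedModule Q.primeCompl (C ⊗[B] M)) Q.primeCompl
    (LocalizedModule.mkLinearMap Q.primeCompl (C ⊗[B] M))).1 (by exact h Q hQP hQm)) J y hy
  exact hs (hIQ hsy)

end Groth.Agent.H1FlatDescFin
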