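import Groth.Agent.H1FlatDescFin.Basic
import Groth.Agent.GrFlat5.FlatAtArtin
import Groth.Agent.GrFlat5.FlatAtIso
import Mathlib.AlgebraicGeometry.Stalk

/-!
Flatness at a point descends along a finite injective extension of the local ring of the base.
-/

set_option backward.isDefEq.respectTransparency false
set_option backward.isDefEq.respectTransparency.types false
set_option linter.style.haveILetI false
set_option autoImplicit false

universe u

open CategoryTheory CategoryTheory.Limits AlgebraicGeometry TopologicalSpace Opposite TensorProduct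

namespace Groth.Agent.H1FlatDescFin

theorem appLE_top_of_eq {Y : Scheme.{u}} {V : Y.Opens} (hV : IsAffineOpen V) {A' : CommRingCat.{u}}
    (ψ : Γ(Y, V) ⟶ A') (g : Spec A' ⟶ Y) (hg : g = Spec.map ψ ≫ hV.fromSpec)
    (hgV : (⊤ : (Spec A').Opens) ≤ g ⁻¹ᵁ V) : g.appLE V ⊤ hgV = ψ ≫ (Scheme.ΓSpecIso A').inv := by
  subst hg
  rw [← Scheme.Hom.appLE_comp_appLE _ hV.fromSpec V ⊤ ⊤ hV.fromSpec_preimage_self.ge le_top,
    Scheme.ΓSpecIso_inv_naturality ψ]
  congr 1
  rw [Scheme.Hom.appLE, hV.fromSpec_app_self, Category.assoc, ← Functor.map_comp]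
  exact (congrArg _ ((Spec Γ(Y, V)).presheaf.map_id _)).trans (Category.comp_id _)

theorem flatAt_of_finite_injective {X Y : Scheme.{u}} [IsLocallyNoetherian Y]
    (f : X ⟶ Y) [LocallyOfFiniteType f] (F : X.Modules) (hF : Coh.IsCoh F) (x : X)
    (A' : CommRingCat.{u}) (φ : Y.presheaf.stalk (f.base x) ⟶ A') (hfin : φ.hom.Finite)
    (hinj : Function.Injective φ.hom)
    (hflat : ∀ x' : ↥(pullback f (Spec.map φ ≫ Y.fromSpecStalk (f.base x))),
      pullback.fst f (Spec.map φ ≫ Y.fromSpecStalk (f.base x)) x' = x →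
      IsClosed ({pullback.snd f (Spec.map φ ≫ Y.fromSpecStalk (f.base x)) x'} : Set ↥(Spec A')) →
        FlatMod.IsFlatOverAt (pullback.snd f (Spec.map φ ≫ Y.fromSpecStalk (f.base x)))
          ((Scheme.Modules.pullback (pullback.fst f (Spec.map φ ≫ Y.fromSpecStalk (f.base x)))).obj F) x') :
    FlatMod.IsFlatOverAt f F x := by
  obtain ⟨V, hV, hxV, -⟩ := exists_isAffineOpen_mem_and_subset (x := f x) (U := ⊤) trivial
  obtain ⟨U, hU, hxU, hUV⟩ := exists_isAffineOpen_mem_and_subset (x := x) (U := f ⁻¹ᵁ V) hxV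
  have hUV' : U ≤ f ⁻¹ᵁ V := hUV
  let A := Γ(Y, V)
  let P := (hU.primeIdealOf ⟨x, hxU⟩).asIdeal
  let p := (hV.primeIdealOf ⟨f x, hxV⟩).asIdeal
  let R := Y.presheaf.stalk (f.base x)
  letI : Algebra A R := (Y.presheaf.germ V (f x) hxV).hom.toAlgebra
  haveI : IsLocalization.AtPrime R p := hV.isLocalization_stalk ⟨f x, hxV⟩
  haveI : IsNoetherianRing A := IsLocallyNoetherian.component_noetherian ⟨V, hV⟩
  haveI : IsNoetherianRing R := IsLocalization.isNoetherianRing p.primeCompl R inferInstance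
  letI : Algebra R A' := φ.hom.toAlgebra
  haveI : Module.Finite R A' := hfin
  let ψ : A ⟶ A' := Y.presheaf.germ V (f x) hxV ≫ φ
  letI : Algebra A A' := ψ.hom.toAlgebra
  haveI : IsScalarTower A R A' := IsScalarTower.of_algebraMap_eq fun _ => rfl
  letI : Algebra A Γ(X, U) := (f.appLE V U hUV').hom.toAlgebra
  letI : Module A Γ(F, U) := Module.compHom _ (algebraMap A Γ(X, U))
  haveI : IsScalarTower A Γ(X, U) Γ(F, U) := .of_algebraMap_smul fun _ _ => rfl
  let g := Spec.map φ ≫ Y.fromSpecStalk (f.base x)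
  have hg : g = Spec.map ψ ≫ hV.fromSpec := by
    show Spec.map φ ≫ Y.fromSpecStalk (f x) = Spec.map (Y.presheaf.germ V (f x) hxV ≫ φ) ≫ hV.fromSpec
    rw [Spec.map_comp, Category.assoc, ← hV.fromSpecStalk_eq_fromSpecStalk hxV]
    rfl
  have hgV : (⊤ : (Spec A').Opens) ≤ g ⁻¹ᵁ V := by
    rw [hg, Scheme.Hom.comp_preimage, hV.fromSpec_preimage_self]
    exact le_top
  let X' := pullback f g
  let W : X'.Opens := pullback.fst f g ⁻¹ᵁ U ⊓ pullback.snd f g ⁻¹ᵁ ⊤
  let eA' : A' ≅ Γ(Spec A', ⊤) := (Scheme.ΓSpecIso A').symm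
  letI : Algebra Γ(X, U) Γ(X', W) := ((pullback.fst f g).appLE U W inf_le_left).hom.toAlgebra
  letI : Algebra A' Γ(X', W) := (eA'.hom ≫ (pullback.snd f g).appLE ⊤ W inf_le_right).hom.toAlgebra
  letI : Algebra A Γ(X', W) := ((algebraMap A' Γ(X', W)).comp ψ.hom).toAlgebra
  haveI : IsScalarTower A A' Γ(X', W) := .of_algebraMap_eq fun _ => rfl
  have hgapp : g.appLE V ⊤ hgV = ψ ≫ eA'.hom := appLE_top_of_eq hV ψ g hg hgV
  have hpo : CategoryTheory.IsPushout ψ (f.appLE V U hUV')
      (eA'.hom ≫ (pullback.snd f g).appLE ⊤ W inf_le_right)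
      ((pullback.fst f g).appLE U W inf_le_left) := by
    have h := ((isIso_pushoutSection_iff (IsPullback.of_hasPullback f g) hgV hUV' (UY := W) rfl).mp
      (isIso_pushoutSection_of_isAffineOpen (IsPullback.of_hasPullback f g) hgV hUV' rfl
        hV (isAffineOpen_top _) hU)).flip
    refine h.of_iso (Iso.refl _) eA'.symm (Iso.refl _) (Iso.refl _) ?_ (by simp) (by simp) (by simp)
    rw [hgapp]
    simp
  haveI : IsScalarTower A Γ(X, U) Γ(X', W) := .of_algebraMap_eq fun r => congr($(hpo.w).hom r)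
  haveI : Algebra.IsPushout A A' Γ(X, U) Γ(X', W) := CommRingCat.isPushout_iff_isPushout.mp hpo
  rw [GrFlat5.flatAt_iff_flat_localized f hF.1 hU hV hUV' (Iso.refl _) (by simp [RingHom.algebraMap_toAlgebra])
    P hxU rfl (LinearEquiv.refl _ _)]
  refine flat_localized (R := R) (S := A') (C := Γ(X', W)) p hinj P ?_ Γ(F, U) ?_
  · exact congrArg PrimeSpectrum.asIdeal
      (IsAffineOpen.comap_primeIdealOf_appLE (f := f) V hV U hU hUV' hxU)
  intro Q hQ hQP hQm
  have hW : IsAffineOpen W := by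
    haveI : IsAffine _ := hU
    haveI : IsAffine _ := isAffineOpen_top (Spec A')
    haveI : IsAffine _ := hV
    exact .of_isIso (Scheme.Hom.isPullback_resLE (IsPullback.of_hasPullback f g) hgV hUV'
      (UY := W) rfl).isoPullback.hom
  obtain ⟨y, hy, hyQ⟩ := QCoh.exists_point hW ⟨Q, hQ⟩
  have h₁ : pullback.fst f g y = x := by
    have e := IsAffineOpen.comap_primeIdealOf_appLE (f := pullback.fst f g) U hU W hW inf_le_left hy
    rw [hyQ] at e
    have e' : hU.primeIdealOf ⟨pullback.fst f g y, hy.1⟩ = hU.primeIdealOf ⟨x, hxU⟩ :=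
      e.symm.trans (PrimeSpectrum.ext hQP)
    have := congrArg hU.fromSpec e'
    rwa [hU.fromSpec_primeIdealOf, hU.fromSpec_primeIdealOf] at this
  have h₂ : IsClosed ({pullback.snd f g y} : Set ↥(Spec A')) := by
    refine (PrimeSpectrum.isClosed_singleton_iff_isMaximal _).2 ?_
    have e := IsAffineOpen.comap_primeIdealOf_appLE (f := pullback.snd f g) ⊤ (isAffineOpen_top _) W hW
      inf_le_right hy
    rw [hyQ] at e
    convert hQm using 1
    rw [← GrFlat5.comap_primeIdealOf_top, ← e]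
    rfl
  let N := (Scheme.Modules.pullback (pullback.fst f g)).obj F
  letI : Module Γ(X, U) Γ(N, W) := Module.compHom _ ((pullback.fst f g).appLE U W inf_le_left).hom
  haveI : IsScalarTower Γ(X, U) Γ(X', W) Γ(N, W) := .of_algebraMap_smul fun _ _ => rfl
  let l : Γ(F, U) →ₗ[Γ(X, U)] Γ(N, W) :=
    { toFun := QCoh.pullSec (pullback.fst f g) F inf_le_left
      map_add' := QCoh.pullSec_add (pullback.fst f g) F inf_le_left
      map_smul' := fun r m => QCoh.pullSec_smul (pullback.fst f g) F inf_le_left r m }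
  have hb : IsBaseChange Γ(X', W) l :=
    QCoh.isBaseChange_pullback hU (pullback.fst f g) hW hF.1 inf_le_left (fun _ => rfl) l fun _ => rfl
  exact (GrFlat5.flatAt_iff_flat_localized (pullback.snd f g) (QCoh.isQCoh_pullback _ hF.1) hW (isAffineOpen_top _)
    inf_le_right eA' rfl Q hy (congrArg PrimeSpectrum.asIdeal hyQ) hb.equiv).1 (hflat y h₁ h₂)

end Groth.Agent.H1FlatDescFin
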